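import Mathlib
import Cfsg.Agent.H844.K5.Base
import Cfsg.Agent.GH.Defs

/-!
# S4874, `p = 2`: the alternating groups of degree 8 and 9 are rich (helper265)
-/

set_option autoImplicit false

open Cfsg Subgroup Cfsg.Agent.H844.K5 Cfsg.Agent.GH.Defs
open Equiv Equiv.Perm

namespace Cfsg.Agent.H265.K5

/-- a criterion: `t³ = 1` and `[t, a]` of order 2 -/
theorem not_complement {G : Type*} [Group G] [Finite G] {t a : G} (ht : t ^ 3 = 1)
    (hc : (t * a * t⁻¹ * a⁻¹) ^ 2 = 1) (hne : t * a * t⁻¹ * a⁻¹ ≠ 1) : ¬ HasNormalPComplement 2 G := by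
  rintro ⟨P, N, hN, hc1⟩
  have : Fact (Nat.Prime 2) := ⟨Nat.prime_two⟩
  have h1 : N.index = Nat.card (P : Subgroup G) := hc1.symm.index_eq_card
  have h2 : (P : Subgroup G).index = Nat.card N := hc1.index_eq_card
  obtain ⟨k, hk⟩ := IsPGroup.iff_card.1 P.2
  have htN : t ∈ N := by
    rw [← QuotientGroup.eq_one_iff (N := N) t, ← orderOf_eq_one_iff]
    have h3 : orderOf (t : G ⧸ N) ∣ 3 := by
      apply orderOf_dvd_of_pow_eq_one
      rw [← QuotientGroup.mk_pow, ht, QuotientGroup.mk_one]
    have h4 : orderOf (t : G ⧸ N) ∣ 2 ^ k := by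
      rw [← hk, ← h1]
      exact orderOf_dvd_natCard _
    have h5 : Nat.Coprime 3 (2 ^ k) := Nat.Coprime.pow_right k (by norm_num)
    exact Nat.eq_one_of_dvd_coprimes h5 h3 h4
  have hcN : t * a * t⁻¹ * a⁻¹ ∈ N := by
    have h3 : t * a * t⁻¹ * a⁻¹ = t * (a * t⁻¹ * a⁻¹) := by group
    rw [h3]
    exact mul_mem htN (hN.conj_mem _ (inv_mem htN) a)
  have hodd : ¬ 2 ∣ Nat.card N := by
    rw [← h2]
    exact P.not_dvd_index
  apply hodd
  have h6 : orderOf (⟨_, hcN⟩ : N) = 2 := by
    apply orderOf_eq_prime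
    · exact Subtype.ext hc
    · intro h
      exact hne (congrArg Subtype.val h)
  rw [← h6]
  exact orderOf_dvd_natCard _

/-- weight 2 in the alternating group -/
theorem wt_two {n : ℕ} (x t a : alternatingGroup (Fin n)) (hx1 : t * x = x * t) (hx2 : a * x = x * a)
    (ht : t ^ 3 = 1) (hc : (t * a * t⁻¹ * a⁻¹) ^ 2 = 1) (hne : t * a * t⁻¹ * a⁻¹ ≠ 1) : wt x = 2 := by
  apply wt_eq_two
  have h1 : t ∈ centralizer ({x} : Set (alternatingGroup (Fin n))) := mem_centralizer_singleton_iff.2 hx1
  have h2 : a ∈ centralizer ({x} : Set (alternatingGroup (Fin n))) := mem_centralizer_singleton_iff.2 hx2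
  exact not_complement (t := ⟨t, h1⟩) (a := ⟨a, h2⟩) (Subtype.ext ht) (Subtype.ext hc)
    (fun h => hne (congrArg Subtype.val h))

/-- centralizers in the alternating group -/
theorem card_cent {n : ℕ} (x : alternatingGroup (Fin n)) (s : Perm (Fin n)) (hs : sign s = -1)
    (hsx : s * x = x * s) : Nat.card (centralizer ({(x : Perm (Fin n))} : Set (Perm (Fin n)))) =
      2 * Nat.card (centralizer ({x} : Set (alternatingGroup (Fin n)))) := by
  let C := centralizer ({(x : Perm (Fin n))} : Set (Perm (Fin n)))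
  let f : C →* ℤˣ := sign.comp C.subtype
  have hsC : s ∈ C := mem_centralizer_singleton_iff.2 hsx
  have h1 : Function.Surjective f := by
    intro e
    rcases Int.units_eq_one_or e with rfl | rfl
    · exact ⟨1, map_one f⟩
    · exact ⟨⟨s, hsC⟩, hs⟩
  have h2 : f.ker.index = 2 := by
    rw [index_ker, MonoidHom.range_eq_top.2 h1, card_top]
    simp
  have h3 : Nat.card f.ker = Nat.card (centralizer ({x} : Set (alternatingGroup (Fin n)))) := by
    refine Nat.card_congr ⟨fun g => ⟨⟨(g : C), ?_⟩, ?_⟩, fun g => ⟨⟨((g : alternatingGroup (Fin n)) : Perm (Fin n)), ?_⟩, ?_⟩, ?_, ?_⟩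
    · exact g.2
    · exact mem_centralizer_singleton_iff.2 (Subtype.ext (mem_centralizer_singleton_iff.1 (g : C).2))
    · exact mem_centralizer_singleton_iff.2 (congrArg Subtype.val (mem_centralizer_singleton_iff.1 g.2))
    · exact (g : alternatingGroup (Fin n)).2
    · intro g; rfl
    · intro g; rfl
  have h4 := f.ker.card_mul_index
  rw [h2, h3, mul_comm] at h4
  exact h4.symm

theorem rich_of {n : ℕ} (x y : alternatingGroup (Fin n)) (hx : wt x = 2) (hy : wt y = 2) (hx2 : x ^ 2 = 1)
    (hy2 : y ^ 2 = 1) (hx1 : x ≠ 1) (hy1 : y ≠ 1)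
    (hne : Nat.card (centralizer ({x} : Set (alternatingGroup (Fin n)))) ≠
      Nat.card (centralizer ({y} : Set (alternatingGroup (Fin n))))) : Rich (alternatingGroup (Fin n)) := by
  classical
  have hxy : x ≠ y := fun h => hne (by rw [h])
  refine ⟨{x, y}, ?_, ?_, ?_⟩
  · intro a ha
    rw [Finset.mem_insert, Finset.mem_singleton] at ha
    rcases ha with rfl | rfl
    · exact ⟨⟨1, by rw [pow_one]; exact orderOf_eq_prime hx2 hx1⟩, hx1⟩
    · exact ⟨⟨1, by rw [pow_one]; exact orderOf_eq_prime hy2 hy1⟩, hy1⟩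
  · intro a ha b hb _ hab
    rw [Finset.mem_insert, Finset.mem_singleton] at ha hb
    rcases ha with rfl | rfl <;> rcases hb with rfl | rfl
    · rfl
    · exact absurd hab hne
    · exact absurd hab.symm hne
    · rfl
  · rw [Finset.sum_pair hxy, hx, hy]

/-! ### degree 8 -/

theorem rich_eight : Rich (alternatingGroup (Fin 8)) := by
  let x : alternatingGroup (Fin 8) := ⟨swap 0 1 * swap 2 3, mem_alternatingGroup.2 (by decide +kernel)⟩
  let y : alternatingGroup (Fin 8) := ⟨swap 0 1 * swap 2 3 * (swap 4 5 * swap 6 7), mem_alternatingGroup.2 (by decide +kernel)⟩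
  refine rich_of x y ?_ ?_ (by decide +kernel) (by decide +kernel) (by decide +kernel) (by decide +kernel) ?_
  · exact wt_two x ⟨swap 4 5 * swap 5 6, mem_alternatingGroup.2 (by decide +kernel)⟩ ⟨swap 4 5 * swap 6 7, mem_alternatingGroup.2 (by decide +kernel)⟩ (by decide +kernel)
      (by decide +kernel) (by decide +kernel) (by decide +kernel) (by decide +kernel)
  · exact wt_two y ⟨swap 0 2 * swap 2 4 * (swap 1 3 * swap 3 5), mem_alternatingGroup.2 (by decide +kernel)⟩
      ⟨swap 0 1 * swap 2 3, mem_alternatingGroup.2 (by decide +kernel)⟩ (by decide +kernel)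
      (by decide +kernel) (by decide +kernel) (by decide +kernel) (by decide +kernel)
  · intro h
    have h1 := card_cent x (swap 0 1) (by decide +kernel) (by decide +kernel)
    have h2 := card_cent y (swap 0 1) (by decide +kernel) (by decide +kernel)
    rw [← h, ← h1, nat_card_centralizer, nat_card_centralizer] at h2
    have c1 : (x : Perm (Fin 8)).cycleType = {2, 2} := by decide +kernel
    have c2 : (y : Perm (Fin 8)).cycleType = {2, 2, 2, 2} := by decide +kernel
    rw [c1, c2] at h2
    revert h2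
    decide +kernel

/-! ### degree 9 -/

theorem rich_nine : Rich (alternatingGroup (Fin 9)) := by
  let x : alternatingGroup (Fin 9) := ⟨swap 0 1 * swap 2 3, mem_alternatingGroup.2 (by decide +kernel)⟩
  let y : alternatingGroup (Fin 9) := ⟨swap 0 1 * swap 2 3 * (swap 4 5 * swap 6 7), mem_alternatingGroup.2 (by decide +kernel)⟩
  refine rich_of x y ?_ ?_ (by decide +kernel) (by decide +kernel) (by decide +kernel) (by decide +kernel) ?_
  · exact wt_two x ⟨swap 4 5 * swap 5 6, mem_alternatingGroup.2 (by decide +kernel)⟩ ⟨swap 4 5 * swap 6 7, mem_alternatingGroup.2 (by decide +kernel)⟩ (by decide +kernel)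
      (by decide +kernel) (by decide +kernel) (by decide +kernel) (by decide +kernel)
  · exact wt_two y ⟨swap 0 2 * swap 2 4 * (swap 1 3 * swap 3 5), mem_alternatingGroup.2 (by decide +kernel)⟩
      ⟨swap 0 1 * swap 2 3, mem_alternatingGroup.2 (by decide +kernel)⟩ (by decide +kernel)
      (by decide +kernel) (by decide +kernel) (by decide +kernel) (by decide +kernel)
  · intro h
    have h1 := card_cent x (swap 0 1) (by decide +kernel) (by decide +kernel)
    have h2 := card_cent y (swap 0 1) (by decide +kernel) (by decide +kernel)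
    rw [← h, ← h1, nat_card_centralizer, nat_card_centralizer] at h2
    have c1 : (x : Perm (Fin 9)).cycleType = {2, 2} := by decide +kernel
    have c2 : (y : Perm (Fin 9)).cycleType = {2, 2, 2, 2} := by decide +kernel
    rw [c1, c2] at h2
    revert h2
    decide +kernel

universe u

/-- **S4874, T14** -/
theorem rich_alt {S : Type u} [Group S] [Finite S] (n : ℕ) (hn : n = 8 ∨ n = 9) (h : IsAlt n S) : Rich S := by
  obtain ⟨e⟩ := h
  rcases hn with rfl | rfl
  · exact rich_eight.congr e.symm
  · exact rich_nine.congr e.symm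

end Cfsg.Agent.H265.K5
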